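import Mathlib
import Groth.Prelude.Def_W4c6equivkfinstabCyc

/-!
# Decomposition of group rings of finite commutative groups into cyclotomic quotients
-/

open Polynomial W4c6equivkfinstab

namespace Groth.Agent.GrpCyc29

theorem cyclotomic_dvd_comp {n j : ℕ} (hn : 0 < n) (hj : j.Coprime n) :
    cyclotomic n ℤ ∣ (cyclotomic n ℤ).comp (X ^ j) := by
  have hζ := Complex.isPrimitiveRoot_exp n hn.ne'
  rw [cyclotomic_eq_minpoly hζ hn]
  refine minpoly.isIntegrallyClosed_dvd (hζ.isIntegral hn) ?_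
  rw [aeval_comp, map_pow, aeval_X, ← cyclotomic_eq_minpoly hζ hn, aeval_def, eval₂_eq_eval_map, map_cyclotomic]
  exact (hζ.pow_of_coprime j hj).isRoot_cyclotomic hn

theorem cyclotomic_dvd_geom {n j d : ℕ} (hn : 0 < n) (hj : ¬ n ∣ j) (hd : n ∣ j * d) :
    cyclotomic n ℤ ∣ ∑ i ∈ Finset.range d, (X ^ j : ℤ[X]) ^ i := by
  have hp : Prime (cyclotomic n ℤ) := (cyclotomic.irreducible hn).prime
  have h1 : cyclotomic n ℤ ∣ (∑ i ∈ Finset.range d, (X ^ j : ℤ[X]) ^ i) * (X ^ j - 1) := by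
    rw [geom_sum_mul, ← pow_mul]
    obtain ⟨c, hc⟩ := hd
    rw [hc, pow_mul]
    exact (cyclotomic.dvd_X_pow_sub_one n ℤ).trans (sub_one_dvd_pow_sub_one _ c)
  refine (hp.dvd_or_dvd h1).resolve_right fun h => hj ?_
  have hζ := Complex.isPrimitiveRoot_exp n hn.ne'
  obtain ⟨q, hq⟩ := h
  have h2 := congrArg (aeval (Complex.exp (2 * Real.pi * Complex.I / n))) hq
  have h0 : aeval (Complex.exp (2 * Real.pi * Complex.I / n)) (cyclotomic n ℤ) = 0 := by
    rw [aeval_def, eval₂_eq_eval_map, map_cyclotomic]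
    exact hζ.isRoot_cyclotomic hn
  rw [map_mul, h0, zero_mul, map_sub, map_pow, aeval_X, map_one, sub_eq_zero] at h2
  exact (hζ.pow_eq_one_iff_dvd j).1 h2

theorem aeval_eq_zero_of_dvd {R : Type*} [CommRing R] {S : Type*} [CommRing S] [Algebra R S] (x : S) (n : ℕ)
    (p : ℤ[X]) (h : cyclotomic n ℤ ∣ p) (h0 : aeval x (cyclotomic n R) = 0) : aeval x p = 0 := by
  obtain ⟨q, rfl⟩ := h
  have : aeval x (cyclotomic n ℤ) = 0 := by
    rw [← h0, ← map_cyclotomic n (Int.castRingHom R)]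
    exact (aeval_map_algebraMap R x _).symm
  rw [map_mul, this, zero_mul]

variable (Λ : Type*) [CommRing Λ]

theorem isCoprime_aeval_cyclotomic {S : Type*} [CommRing S] [Algebra Λ S] (t : S) {n : ℕ} (hn : 0 < n)
    (ht : t ^ n = 1) (hu : IsUnit (n : S)) {d e : ℕ} (hd : d ∣ n) (he : e ∣ n) (hne : d ≠ e) :
    IsCoprime (aeval t (cyclotomic d Λ)) (aeval t (cyclotomic e Λ)) := by
  classical
  have hprod := prod_cyclotomic_eq_X_pow_sub_one hn Λ
  rw [← Finset.mul_prod_erase _ _ (Nat.mem_divisors.2 ⟨hd, hn.ne'⟩),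
    ← Finset.mul_prod_erase _ _ (Finset.mem_erase.2 ⟨hne.symm, Nat.mem_divisors.2 ⟨he, hn.ne'⟩⟩)] at hprod
  set A := cyclotomic d Λ
  set B := cyclotomic e Λ
  set R := ∏ i ∈ (n.divisors.erase d).erase e, cyclotomic i Λ
  have h := congrArg (fun p => aeval t (X * derivative p)) hprod
  simp only [derivative_mul, derivative_sub, derivative_one, sub_zero, derivative_X_pow, map_mul, map_add, aeval_X,
    aeval_C, map_natCast, map_pow] at h
  have htn : t * t ^ (n - 1) = 1 := by rw [← pow_succ', Nat.sub_add_cancel hn]; exact ht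
  have h' : (n : S) = t * ((aeval t) (derivative B) * (aeval t) R + (aeval t) B * (aeval t) (derivative R)) * aeval t A +
      t * ((aeval t) (derivative A) * (aeval t) R) * aeval t B := by
    linear_combination -h - (n : S) * htn
  obtain ⟨u, hu⟩ := hu
  refine ⟨↑u⁻¹ * (t * ((aeval t) (derivative B) * (aeval t) R + (aeval t) B * (aeval t) (derivative R))),
    ↑u⁻¹ * (t * ((aeval t) (derivative A) * (aeval t) R)), ?_⟩
  rw [mul_assoc, mul_assoc (↑u⁻¹ : S), ← mul_add, ← h', ← hu, Units.inv_mul]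

variable {M : Type*} [AddCommGroup M]

/-- The class of a group element. -/
noncomputable abbrev el {G : Type*} [AddCommGroup G] (m : G) : AddMonoidAlgebra Λ G := AddMonoidAlgebra.single m 1

theorem el_add {G : Type*} [AddCommGroup G] (a b : G) : el Λ (a + b) = el Λ a * el Λ b := by
  rw [el, el, el, AddMonoidAlgebra.single_mul_single, mul_one]

theorem el_nsmul {G : Type*} [AddCommGroup G] (a : G) (k : ℕ) : el Λ (k • a) = el Λ a ^ k := by
  rw [el, el, AddMonoidAlgebra.single_pow, one_pow]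

theorem el_zero {G : Type*} [AddCommGroup G] : el Λ (0 : G) = 1 := rfl

theorem quotMap_el (H : AddSubgroup M) (m : M) : quotMap Λ M H (el Λ m) = el Λ (QuotientAddGroup.mk m : M ⧸ H) := by
  simp [quotMap, el]

theorem quotMap_surjective (H : AddSubgroup M) : Function.Surjective (quotMap Λ M H) := by
  intro y
  induction y using AddMonoidAlgebra.induction_linear with
  | zero => exact ⟨0, map_zero _⟩
  | add a b ha hb =>
    obtain ⟨a', rfl⟩ := ha; obtain ⟨b', rfl⟩ := hb
    exact ⟨a' + b', map_add _ _ _⟩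
  | single g c =>
    obtain ⟨m, rfl⟩ := QuotientAddGroup.mk_surjective g
    exact ⟨AddMonoidAlgebra.single m c, by simp [quotMap]⟩

theorem mem_span_of_quotMap_eq_zero (H : AddSubgroup M) {x : AddMonoidAlgebra Λ M} (hx : quotMap Λ M H x = 0) :
    x ∈ Ideal.span ((fun h => el Λ h - 1) '' (H : Set M)) := by
  classical
  let s : M ⧸ H → M := Function.surjInv QuotientAddGroup.mk_surjective
  let L : AddMonoidAlgebra Λ (M ⧸ H) → AddMonoidAlgebra Λ M := fun y => AddMonoidAlgebra.mapDomain s y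
  have key : ∀ z : AddMonoidAlgebra Λ M, z - L (quotMap Λ M H z) ∈ Ideal.span ((fun h => el Λ h - 1) '' (H : Set M)) := by
    intro z
    induction z using AddMonoidAlgebra.induction_linear with
    | zero => simp [L]
    | add a b ha hb =>
      have := add_mem ha hb
      convert this using 1
      simp only [map_add, L, AddMonoidAlgebra.mapDomain_add]
      abel
    | single g c =>
      have hh : -(s (QuotientAddGroup.mk g)) + g ∈ H := by
        rw [← QuotientAddGroup.eq]; exact Function.surjInv_eq QuotientAddGroup.mk_surjective _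
      have e : AddMonoidAlgebra.single g c - L (quotMap Λ M H (AddMonoidAlgebra.single g c)) =
          AddMonoidAlgebra.single (s (QuotientAddGroup.mk g)) c * (el Λ (-(s (QuotientAddGroup.mk g)) + g) - 1) := by
        rw [mul_sub, mul_one, el, AddMonoidAlgebra.single_mul_single, add_neg_cancel_left, mul_one]
        simp [L, quotMap]
      rw [e]
      exact Ideal.mul_mem_left _ _ (Ideal.subset_span ⟨_, hh, rfl⟩)
  have := key x
  rw [hx] at this
  simpa [L] using this

theorem quotMap_comp (H K : AddSubgroup M) (h : H ≤ K) :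
    quotMap Λ M K = (AddMonoidAlgebra.mapDomainRingHom Λ (QuotientAddGroup.map H K (AddMonoidHom.id M) h)).comp (quotMap Λ M H) := by
  rw [quotMap, quotMap, ← AddMonoidAlgebra.mapDomainRingHom_comp]
  rfl

/-- The image of a group element in a cyclotomic quotient. -/
theorem isUnit_el_sub_one (B : AddSubgroup M) [B.FiniteIndex] [IsAddCyclic (M ⧸ B)] {b : M} (hb : b ∉ B)
    (hu : IsUnit ((B.index : ℕ) : Λ)) : IsUnit (cycQuotMap Λ M B (el Λ b - 1)) := by
  obtain ⟨g, hg⟩ := isAddCyclic_iff_exists_zmultiples_eq_top.1 ‹IsAddCyclic (M ⧸ B)›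
  set n := Nat.card (M ⧸ B) with hn
  have hidx : B.index = n := AddSubgroup.index_eq_card B
  have : Finite (M ⧸ B) := AddSubgroup.finite_quotient_of_finiteIndex
  have hn0 : 0 < n := Nat.card_pos
  have hord : addOrderOf g = n := addOrderOf_eq_card_of_forall_mem_zmultiples fun x => hg ▸ AddSubgroup.mem_top x
  obtain ⟨j, hj⟩ : ∃ j : ℕ, (QuotientAddGroup.mk b : M ⧸ B) = j • g := by
    have : (QuotientAddGroup.mk b : M ⧸ B) ∈ AddSubgroup.zmultiples g := hg ▸ AddSubgroup.mem_top _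
    rw [← mem_multiples_iff_mem_zmultiples, AddSubmonoid.mem_multiples_iff] at this
    exact this.imp fun _ h => h.symm
  have hjn : ¬ n ∣ j := by
    intro h
    refine hb ((QuotientAddGroup.eq_zero_iff b).1 ?_)
    rw [hj, ← addOrderOf_dvd_iff_nsmul_eq_zero, hord]
    exact h
  set t : CycQuot Λ (M ⧸ B) := Ideal.Quotient.mk _ (el Λ g) with ht
  have h0 : aeval t (cyclotomic n Λ) = 0 := by
    rw [ht, ← Ideal.Quotient.mkₐ_eq_mk Λ, aeval_algHom_apply, Ideal.Quotient.mkₐ_eq_mk, Ideal.Quotient.eq_zero_iff_mem]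
    exact Ideal.subset_span ⟨g, hg, rfl⟩
  have hgeom : ∑ i ∈ Finset.range n, (t ^ j) ^ i = 0 := by
    have := aeval_eq_zero_of_dvd (R := Λ) t n _ (cyclotomic_dvd_geom hn0 hjn (dvd_mul_left n j)) h0
    simpa [map_sum] using this
  have hc : cycQuotMap Λ M B (el Λ b) = t ^ j := by
    rw [cycQuotMap, RingHom.comp_apply, quotMap_el, hj, el_nsmul, map_pow]
  rw [map_sub, map_one, hc]
  have hun : IsUnit (n : CycQuot Λ (M ⧸ B)) := by
    rw [← hidx, ← map_natCast (algebraMap Λ (CycQuot Λ (M ⧸ B)))]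
    exact hu.map _
  have hmul : ∃ q, (t ^ j - 1) * q = (n : CycQuot Λ (M ⧸ B)) := by
    refine ⟨-∑ i ∈ Finset.range n, ∑ k ∈ Finset.range i, (t ^ j) ^ k, ?_⟩
    refine (mul_neg (t ^ j - 1 : CycQuot Λ (M ⧸ B)) (∑ i ∈ Finset.range n, ∑ k ∈ Finset.range i, (t ^ j) ^ k)).trans ?_
    rw [Finset.mul_sum, Finset.sum_congr rfl fun i _ => mul_geom_sum (t ^ j) i, Finset.sum_sub_distrib, hgeom]
    simp
  obtain ⟨q, hq⟩ := hmul
  exact isUnit_of_mul_isUnit_left (hq ▸ hun)

theorem exists_comax (B B' : AddSubgroup M) [B.FiniteIndex] [B'.FiniteIndex] [IsAddCyclic (M ⧸ B)]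
    [IsAddCyclic (M ⧸ B')] (hne : B ≠ B') (hu : IsUnit ((B.index * B'.index : ℕ) : Λ)) :
    ∃ a, cycQuotMap Λ M B a = 0 ∧ cycQuotMap Λ M B' a = 1 := by
  have hu' : IsUnit ((B.index : ℕ) : Λ) ∧ IsUnit ((B'.index : ℕ) : Λ) := by
    rwa [Nat.cast_mul, IsUnit.mul_iff] at hu
  have zero_of : ∀ (C : AddSubgroup M) {c : M}, c ∈ C → cycQuotMap Λ M C (el Λ c - 1) = 0 := fun C c hc => by
    rw [cycQuotMap, RingHom.comp_apply, map_sub, quotMap_el, map_one, (QuotientAddGroup.eq_zero_iff c).2 hc, el_zero, sub_self, map_zero]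
  have surj : ∀ C : AddSubgroup M, Function.Surjective (cycQuotMap Λ M C) := fun C => by
    rw [cycQuotMap, RingHom.coe_comp]
    exact Ideal.Quotient.mk_surjective.comp (quotMap_surjective Λ C)
  by_cases h : B ≤ B'
  · obtain ⟨b, hb, hb'⟩ := SetLike.exists_of_lt (lt_of_le_of_ne h hne)
    obtain ⟨u, hu⟩ := isUnit_el_sub_one Λ B hb' hu'.1
    obtain ⟨w, hw⟩ := surj B ↑u⁻¹
    refine ⟨1 - (el Λ b - 1) * w, ?_, ?_⟩
    · rw [map_sub, map_mul, map_one, ← hu, hw, Units.mul_inv, sub_self]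
    · rw [map_sub, map_mul, zero_of B' hb, zero_mul, map_one, sub_zero]
  · obtain ⟨b, hb, hb'⟩ := SetLike.not_le_iff_exists.1 h
    obtain ⟨u, hu⟩ := isUnit_el_sub_one Λ B' hb' hu'.2
    obtain ⟨w, hw⟩ := surj B' ↑u⁻¹
    refine ⟨(el Λ b - 1) * w, ?_, ?_⟩
    · rw [map_mul, zero_of B hb, zero_mul]
    · rw [map_mul, ← hu, hw, Units.mul_inv]

theorem cyclic_case (H : AddSubgroup M) [H.FiniteIndex] [IsAddCyclic (M ⧸ H)] (hu : IsUnit ((H.index : ℕ) : Λ))
    (x : AddMonoidAlgebra Λ M)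
    (hx : ∀ K : AddSubgroup M, H ≤ K → IsAddCyclic (M ⧸ K) → cycQuotMap Λ M K x = 0) : quotMap Λ M H x = 0 := by
  classical
  obtain ⟨g, hg⟩ := isAddCyclic_iff_exists_zmultiples_eq_top.1 ‹IsAddCyclic (M ⧸ H)›
  obtain ⟨g₀, rfl⟩ := QuotientAddGroup.mk_surjective g
  have : Finite (M ⧸ H) := AddSubgroup.finite_quotient_of_finiteIndex
  set n := Nat.card (M ⧸ H) with hn
  have hn0 : 0 < n := Nat.card_pos
  have hord : addOrderOf (QuotientAddGroup.mk g₀ : M ⧸ H) = n :=
    addOrderOf_eq_card_of_forall_mem_zmultiples fun x => hg ▸ AddSubgroup.mem_top x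
  set t := el Λ (QuotientAddGroup.mk g₀ : M ⧸ H) with ht
  have htn : t ^ n = 1 := by rw [ht, ← el_nsmul, ← hord, addOrderOf_nsmul_eq_zero, el_zero]
  have hmul : ∀ k : ℕ, el Λ (k • (QuotientAddGroup.mk g₀ : M ⧸ H)) = t ^ k := fun k => el_nsmul Λ _ k
  have hdvd : ∀ d ∈ n.divisors, aeval t (cyclotomic d Λ) ∣ quotMap Λ M H x := by
    intro d hd
    have hdn := (Nat.mem_divisors.1 hd).1
    have hd0 : 0 < d := Nat.pos_of_mem_divisors hd
    set K := H ⊔ AddSubgroup.zmultiples (d • g₀)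
    have hHK : H ≤ K := le_sup_left
    have hgK : AddSubgroup.zmultiples (QuotientAddGroup.mk g₀ : M ⧸ K) = ⊤ := by
      refine eq_top_iff.2 fun y _ => ?_
      obtain ⟨y, rfl⟩ := QuotientAddGroup.mk_surjective y
      obtain ⟨i, hi⟩ := AddSubgroup.mem_zmultiples_iff.1 (hg ▸ AddSubgroup.mem_top (QuotientAddGroup.mk y : M ⧸ H))
      refine AddSubgroup.mem_zmultiples_iff.2 ⟨i, ?_⟩
      rw [← QuotientAddGroup.mk_zsmul] at hi ⊢
      rw [QuotientAddGroup.eq] at hi ⊢
      exact hHK hi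
    have hcyc : IsAddCyclic (M ⧸ K) := isAddCyclic_iff_exists_zmultiples_eq_top.2 ⟨_, hgK⟩
    have hKd : ∀ k : ℕ, (k • g₀ ∈ K ↔ d ∣ k) := by
      intro k
      refine ⟨fun hk => ?_, fun ⟨c, hc⟩ => ?_⟩
      · obtain ⟨h₀, hh₀, z, hz, he⟩ := AddSubgroup.mem_sup.1 hk
        obtain ⟨c, rfl⟩ := AddSubgroup.mem_zmultiples_iff.1 hz
        have := congrArg (QuotientAddGroup.mk : M → M ⧸ H) he
        rw [QuotientAddGroup.mk_add, (QuotientAddGroup.eq_zero_iff h₀).2 hh₀, zero_add, ← natCast_zsmul g₀ d,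
          ← mul_smul, ← natCast_zsmul g₀ k, QuotientAddGroup.mk_zsmul, QuotientAddGroup.mk_zsmul,
          zsmul_eq_zsmul_iff_modEq, hord] at this
        exact Int.natCast_dvd_natCast.1 ((dvd_add_left ((dvd_mul_left (d : ℤ) c))).1
          (by simpa using dvd_add ((Int.natCast_dvd_natCast.2 hdn).trans this.dvd) (dvd_mul_left (d : ℤ) c)))
      · rw [hc, mul_comm, mul_smul]
        exact K.nsmul_mem (AddSubgroup.mem_sup_right (AddSubgroup.mem_zmultiples _)) c
    have hcard : Nat.card (M ⧸ K) = d := by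
      rw [← addOrderOf_eq_card_of_forall_mem_zmultiples (fun y => hgK ▸ AddSubgroup.mem_top y), addOrderOf_eq_iff hd0]
      refine ⟨by rw [← QuotientAddGroup.mk_nsmul, QuotientAddGroup.eq_zero_iff]; exact (hKd d).2 dvd_rfl, fun m hm hm0 => ?_⟩
      rw [← QuotientAddGroup.mk_nsmul, Ne, QuotientAddGroup.eq_zero_iff, hKd]
      exact fun h => absurd (Nat.le_of_dvd hm0 h) (not_le.2 hm)
    have h := hx K hHK hcyc
    rw [cycQuotMap, RingHom.comp_apply, Ideal.Quotient.eq_zero_iff_mem, quotMap_comp Λ H K hHK, RingHom.comp_apply] at h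
    set φ := AddMonoidAlgebra.mapDomainRingHom Λ (QuotientAddGroup.map H K (AddMonoidHom.id M) hHK)
    set J := Ideal.span {aeval t (cyclotomic d Λ)}
    have hφel : ∀ m : M, φ (el Λ (QuotientAddGroup.mk m : M ⧸ H)) = el Λ (QuotientAddGroup.mk m : M ⧸ K) := fun m => by
      simp [φ, el]
    have hker : ∀ z, φ z = 0 → z ∈ J := by
      intro z hz
      obtain ⟨w, rfl⟩ := quotMap_surjective Λ H z
      rw [show φ (quotMap Λ M H w) = quotMap Λ M K w from (RingHom.congr_fun (quotMap_comp Λ H K hHK) w).symm] at hz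
      have hspan : Ideal.span ((fun h => el Λ h - 1) '' (K : Set M)) ≤ J.comap (quotMap Λ M H) := by
        rw [Ideal.span_le]
        rintro _ ⟨m, hm, rfl⟩
        obtain ⟨i, hi⟩ : ∃ i : ℕ, (QuotientAddGroup.mk m : M ⧸ H) = i • QuotientAddGroup.mk g₀ := by
          have : (QuotientAddGroup.mk m : M ⧸ H) ∈ AddSubgroup.zmultiples (QuotientAddGroup.mk g₀ : M ⧸ H) := hg ▸ AddSubgroup.mem_top _
          rw [← mem_multiples_iff_mem_zmultiples, AddSubmonoid.mem_multiples_iff] at this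
          exact this.imp fun _ h => h.symm
        have hid : d ∣ i := by
          rw [← hKd]
          have h1 : -(i • g₀) + m ∈ H := by rw [← QuotientAddGroup.eq, QuotientAddGroup.mk_nsmul, hi]
          have := K.sub_mem hm (hHK h1)
          simpa using this
        rw [SetLike.mem_coe, Ideal.mem_comap, map_sub, map_one, quotMap_el, hi, hmul]
        obtain ⟨c, rfl⟩ := hid
        refine Ideal.mem_span_singleton.2 (dvd_trans ?_ ((pow_mul t d c) ▸ sub_one_dvd_pow_sub_one (t ^ d) c))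
        rw [show t ^ d - 1 = aeval t (X ^ d - 1 : Λ[X]) by simp]
        exact map_dvd (aeval t) (cyclotomic.dvd_X_pow_sub_one d Λ)
      exact hspan (mem_span_of_quotMap_eq_zero Λ K hz)
    have hle : cycIdeal Λ (M ⧸ K) ≤ Ideal.map φ J := by
      rw [cycIdeal, Ideal.span_le]
      rintro _ ⟨u, hu', rfl⟩
      obtain ⟨i, hi⟩ : ∃ i : ℕ, u = i • (QuotientAddGroup.mk g₀ : M ⧸ K) := by
        have : u ∈ AddSubgroup.zmultiples (QuotientAddGroup.mk g₀ : M ⧸ K) := hgK ▸ AddSubgroup.mem_top _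
        have hfin : Finite (M ⧸ K) := Nat.finite_of_card_ne_zero (by omega)
        rw [← mem_multiples_iff_mem_zmultiples, AddSubmonoid.mem_multiples_iff] at this
        exact this.imp fun _ h => h.symm
      have hco : i.Coprime d := by
        have : Finite (M ⧸ K) := Nat.finite_of_card_ne_zero (by omega)
        have h1 : addOrderOf u = d := by
          exact (addOrderOf_eq_card_of_forall_mem_zmultiples fun y => hu' ▸ AddSubgroup.mem_top y).trans hcard
        have h2 : addOrderOf (QuotientAddGroup.mk g₀ : M ⧸ K) = d := by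
          exact (addOrderOf_eq_card_of_forall_mem_zmultiples fun y => hgK ▸ AddSubgroup.mem_top y).trans hcard
        rw [hi, addOrderOf_nsmul _, h2] at h1
        have h3 := Nat.gcd_dvd_left d i
        obtain ⟨c, hc⟩ := h3
        have h4 : d.gcd i = 1 := by
          by_contra hne
          have hlt : d / d.gcd i < d := Nat.div_lt_self hd0 (by have := Nat.gcd_pos_of_pos_left i hd0; omega)
          omega
        exact Nat.coprime_comm.1 h4
      rw [SetLike.mem_coe, hcard, hi, show AddMonoidAlgebra.single (i • (QuotientAddGroup.mk g₀ : M ⧸ K)) (1 : Λ) = φ (t ^ i) by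
        rw [map_pow, ht, hφel, ← el_nsmul]]
      have : aeval (φ (t ^ i)) (cyclotomic d Λ) = φ (aeval (t ^ i) (cyclotomic d Λ)) := by
        let φ' := AddMonoidAlgebra.mapDomainAlgHom Λ Λ (QuotientAddGroup.map H K (AddMonoidHom.id M) hHK)
        have hφ' : ∀ z, φ' z = φ z := fun _ => rfl
        rw [← hφ', ← hφ', aeval_algHom_apply]
      rw [this]
      refine Ideal.mem_map_of_mem _ (Ideal.mem_span_singleton.2 ?_)
      have h5 : aeval t ((cyclotomic d Λ).comp (X ^ i)) = aeval (t ^ i) (cyclotomic d Λ) := by simp [aeval_comp]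
      rw [← h5]
      refine map_dvd (aeval t) ?_
      rw [← map_cyclotomic_int d Λ, show (X : Λ[X]) ^ i = Polynomial.map (Int.castRingHom Λ) (X ^ i) by simp, ← Polynomial.map_comp]
      exact Polynomial.map_dvd _ (cyclotomic_dvd_comp hd0 hco)
    obtain ⟨z, hz, hz'⟩ := (Ideal.mem_map_iff_of_surjective φ (fun y => by
      obtain ⟨w, rfl⟩ := quotMap_surjective Λ K y
      exact ⟨quotMap Λ M H w, (RingHom.congr_fun (quotMap_comp Λ H K hHK) w).symm⟩)).1 (hle h)
    refine Ideal.mem_span_singleton.1 ?_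
    have := add_mem hz (hker (quotMap Λ M H x - z) (by rw [map_sub, hz', sub_self]))
    rwa [add_sub_cancel] at this
  have hun : IsUnit (n : AddMonoidAlgebra Λ (M ⧸ H)) := by
    rw [hn, ← AddSubgroup.index_eq_card, ← map_natCast (algebraMap Λ (AddMonoidAlgebra Λ (M ⧸ H)))]
    exact hu.map _
  have := Finset.prod_dvd_of_coprime (s := fun d => aeval t (cyclotomic d Λ)) (t := n.divisors) (z := quotMap Λ M H x) (fun a ha b hb hab =>
    isCoprime_aeval_cyclotomic Λ t hn0 htn hun (Nat.mem_divisors.1 ha).1 (Nat.mem_divisors.1 hb).1 hab) hdvd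
  rw [← map_prod, prod_cyclotomic_eq_X_pow_sub_one hn0] at this
  simpa [htn] using this

theorem torsion_le {G : Type*} [AddCommGroup G] [Finite G]
    (h : ∀ p : ℕ, p.Prime → Nat.card (AddSubgroup.torsionBy G (p : ℤ)) ≤ p) :
    ∀ m : ℕ, 0 < m → Nat.card (AddSubgroup.torsionBy G (m : ℤ)) ≤ m := by
  have hmem : ∀ (k : ℕ) (x : G), x ∈ AddSubgroup.torsionBy G (k : ℤ) ↔ k • x = 0 := fun k x => by
    simp [AddSubgroup.torsionBy]
  intro m
  induction m using induction_on_primes with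
  | zero => intro h0; omega
  | one =>
    intro _
    have : AddSubgroup.torsionBy G ((1 : ℕ) : ℤ) = ⊥ := by
      ext x; rw [hmem, one_smul, AddSubgroup.mem_bot]
    rw [this]; simp
  | prime_mul p a hp ih =>
    intro hpa
    let f : AddSubgroup.torsionBy G ((p * a : ℕ) : ℤ) →+ AddSubgroup.torsionBy G (a : ℤ) :=
      { toFun := fun x => ⟨p • x.1, by rw [hmem, ← mul_smul, mul_comm]; exact (hmem _ _).1 x.2⟩
        map_zero' := Subtype.ext (smul_zero _)
        map_add' := fun x y => Subtype.ext (smul_add _ _ _) }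
    have h1 : Nat.card (AddSubgroup.torsionBy G ((p * a : ℕ) : ℤ)) = Nat.card f.range * Nat.card f.ker := by
      rw [← AddSubgroup.index_ker]
      exact (AddSubgroup.card_mul_index f.ker).symm.trans (Nat.mul_comm _ _)
    have h2 : Nat.card f.range ≤ a :=
      (Nat.card_le_card_of_injective _ f.range.subtype_injective).trans (ih (Nat.pos_of_ne_zero fun h0 => by simp [h0] at hpa))
    have h3 : Nat.card f.ker ≤ p := by
      refine le_trans (Nat.card_le_card_of_injective (fun x : f.ker => (⟨x.1.1, (hmem _ _).2 (congrArg Subtype.val x.2)⟩ : AddSubgroup.torsionBy G (p : ℤ))) ?_) (h p hp)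
      intro x y hxy
      exact Subtype.ext (Subtype.ext (congrArg Subtype.val hxy :))
    exact h1.trans_le ((Nat.mul_le_mul h2 h3).trans_eq (Nat.mul_comm a p))

theorem geom_identity {R : Type*} [CommRing R] (a b : R) (p : ℕ) (hp : p.Prime) (hb : b ^ p = 1) :
    (p : R) = (∑ j ∈ Finset.range p, ∑ i ∈ Finset.range p, (a * b ^ j) ^ i) + ∑ i ∈ Finset.range p, b ^ i
      - (∑ i ∈ Finset.range p, a ^ i) * ∑ i ∈ Finset.range p, b ^ i := by
  haveI : Fact p.Prime := ⟨hp⟩
  obtain ⟨q, rfl⟩ : ∃ q, p = q + 1 := ⟨p - 1, by have := hp.pos; omega⟩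
  set Sb := ∑ i ∈ Finset.range (q + 1), b ^ i with hSb
  have hperm : ∀ i : ℕ, i < q → ∑ j ∈ Finset.range (q + 1), b ^ (j * (i + 1)) = Sb := by
    intro i hi
    have hne : ((i + 1 : ℕ) : ZMod (q + 1)) ≠ 0 := fun h => by
      have := Nat.le_of_dvd (by omega) ((ZMod.natCast_eq_zero_iff _ _).1 h); omega
    have hval : ∀ k : ℕ, b ^ k = b ^ ((k : ZMod (q + 1)).val) := fun k => by
      rw [ZMod.val_natCast]; exact pow_eq_pow_mod k hb
    rw [hSb, Finset.sum_range, Finset.sum_range]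
    refine Fintype.sum_equiv (Equiv.mulRight₀ ((i + 1 : ℕ) : ZMod (q + 1)) hne) (fun j : Fin (q + 1) => b ^ (j.1 * (i + 1))) (fun j : Fin (q + 1) => b ^ j.1) fun j => ?_
    rw [hval, Nat.cast_mul]
    congr 2
    show ((ZMod.val j : ℕ) : ZMod (q + 1)) * _ = j * _
    rw [ZMod.natCast_zmod_val]
    rfl
  have h1 : ∑ j ∈ Finset.range (q + 1), ∑ i ∈ Finset.range (q + 1), (a * b ^ j) ^ i =
      ((q + 1 : ℕ) : R) + (∑ i ∈ Finset.range q, a ^ (i + 1)) * Sb := by
    rw [Finset.sum_comm, Finset.sum_range_succ', Finset.sum_mul, add_comm]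
    refine congrArg₂ (· + ·) (by simp) (Finset.sum_congr rfl fun i hi => ?_)
    rw [← hperm i (Finset.mem_range.1 hi), Finset.mul_sum]
    exact Finset.sum_congr rfl fun j _ => by rw [mul_pow, pow_mul]
  rw [h1, Finset.sum_range_succ' (fun i => a ^ i)]
  ring

/-- An element killed by all cyclotomic quotient maps above `H` maps to zero modulo `H`. -/
theorem quotMap_eq_zero (x : AddMonoidAlgebra Λ M) :
    ∀ (n : ℕ) (H : AddSubgroup M) [H.FiniteIndex], H.index = n → IsUnit ((H.index : ℕ) : Λ) →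
      (∀ K : AddSubgroup M, H ≤ K → IsAddCyclic (M ⧸ K) → cycQuotMap Λ M K x = 0) → quotMap Λ M H x = 0 := by
  classical
  intro n
  induction n using Nat.strong_induction_on with
  | _ n ih =>
    intro H _ hidx hu hx
    by_cases hcyc : IsAddCyclic (M ⧸ H)
    · exact cyclic_case Λ H hu x hx
    have : Finite (M ⧸ H) := AddSubgroup.finite_quotient_of_finiteIndex
    haveI := Fintype.ofFinite (M ⧸ H)
    have hmem : ∀ (k : ℕ) (y : M ⧸ H), y ∈ AddSubgroup.torsionBy (M ⧸ H) (k : ℤ) ↔ k • y = 0 := fun k y => by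
      simp [AddSubgroup.torsionBy]
    obtain ⟨p, hp, hpc⟩ : ∃ p : ℕ, p.Prime ∧ p < Nat.card (AddSubgroup.torsionBy (M ⧸ H) (p : ℤ)) := by
      by_contra hc
      push Not at hc
      refine hcyc (isAddCyclic_of_card_nsmul_eq_zero_le fun m hm => ?_)
      refine le_trans (le_of_eq ?_) (torsion_le hc m hm)
      rw [Nat.card_eq_fintype_card, ← Fintype.card_subtype]
      exact Fintype.card_congr (Equiv.subtypeEquivRight fun y => (hmem m y).symm)
    haveI : Fact p.Prime := ⟨hp⟩
    obtain ⟨v, hv0⟩ : ∃ v : AddSubgroup.torsionBy (M ⧸ H) (p : ℤ), v ≠ 0 := by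
      by_contra hc
      push Not at hc
      have : Nat.card (AddSubgroup.torsionBy (M ⧸ H) (p : ℤ)) ≤ 1 := Finite.card_le_one_iff_subsingleton.2 ⟨fun a b => (hc a).trans (hc b).symm⟩
      have := hp.one_lt
      omega
    obtain ⟨w, hw⟩ : ∃ w : AddSubgroup.torsionBy (M ⧸ H) (p : ℤ), w.1 ∉ AddSubgroup.zmultiples v.1 := by
      by_contra hc
      push Not at hc
      have h1 : Nat.card (AddSubgroup.torsionBy (M ⧸ H) (p : ℤ)) ≤ Nat.card (AddSubgroup.zmultiples v.1) :=
        Nat.card_le_card_of_injective (fun y => ⟨y.1, hc y⟩) fun a b h => Subtype.ext (congrArg Subtype.val h :)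
      rw [Nat.card_zmultiples] at h1
      have h2 : addOrderOf v.1 ≤ p := Nat.le_of_dvd hp.pos (addOrderOf_dvd_iff_nsmul_eq_zero.2 ((hmem p _).1 v.2))
      omega
    have hkill : ∀ z : M ⧸ H, p • z = 0 → z ≠ 0 → quotMap Λ M H x * ∑ i ∈ Finset.range p, el Λ z ^ i = 0 := by
      intro z hz hz0
      obtain ⟨z₀, rfl⟩ := QuotientAddGroup.mk_surjective z
      set K := H ⊔ AddSubgroup.zmultiples z₀
      have hHK : H < K := lt_of_le_of_ne le_sup_left fun e => hz0 ((QuotientAddGroup.eq_zero_iff z₀).2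
        (e ▸ AddSubgroup.mem_sup_right (AddSubgroup.mem_zmultiples z₀)))
      have hdvd : K.index ∣ H.index := AddSubgroup.index_dvd_of_le hHK.le
      haveI : K.FiniteIndex := AddSubgroup.finiteIndex_of_le hHK.le
      have h0 := ih K.index (hidx ▸ lt_of_le_of_ne (Nat.le_of_dvd (Nat.pos_of_ne_zero AddSubgroup.FiniteIndex.index_ne_zero) hdvd) (fun e => by
          haveI : (H.addSubgroupOf K).FiniteIndex := inferInstance
          have h1 := AddSubgroup.relIndex_mul_index hHK.le
          rw [e] at h1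
          have h2 : H.relIndex K = 1 := by
            have h3 : H.index ≠ 0 := AddSubgroup.FiniteIndex.index_ne_zero
            exact (Nat.mul_eq_right h3).1 h1
          exact hHK.not_ge (AddSubgroup.relIndex_eq_one.1 h2))) K rfl
        (isUnit_of_dvd_unit (Nat.cast_dvd_cast hdvd) hu) (fun K' hK' => hx K' (hHK.le.trans hK'))
      have h1 := mem_span_of_quotMap_eq_zero Λ K h0
      have h2 : Ideal.span ((fun h => el Λ h - 1) '' (K : Set M)) ≤
          (Submodule.span (AddMonoidAlgebra Λ (M ⧸ H)) {∑ i ∈ Finset.range p, el Λ (QuotientAddGroup.mk z₀ : M ⧸ H) ^ i}).annihilator.comap (quotMap Λ M H) := by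
        rw [Ideal.span_le]
        rintro _ ⟨m, hm, rfl⟩
        rw [SetLike.mem_coe, Ideal.mem_comap, Submodule.mem_annihilator_span_singleton, smul_eq_mul, map_sub, map_one, quotMap_el]
        obtain ⟨h₀, hh₀, c, hc, rfl⟩ := AddSubgroup.mem_sup.1 hm
        obtain ⟨i, rfl⟩ : ∃ i : ℤ, i • z₀ = c := AddSubgroup.mem_zmultiples_iff.1 hc
        have e : (QuotientAddGroup.mk (h₀ + i • z₀) : M ⧸ H) = (i % p).toNat • (QuotientAddGroup.mk z₀ : M ⧸ H) := by
          rw [QuotientAddGroup.mk_add, (QuotientAddGroup.eq_zero_iff h₀).2 hh₀, zero_add, QuotientAddGroup.mk_zsmul, ← natCast_zsmul,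
            Int.toNat_of_nonneg (Int.emod_nonneg _ (by exact_mod_cast hp.ne_zero))]
          conv_lhs => rw [← Int.emod_add_mul_ediv i p]
          rw [add_smul, mul_comm, mul_smul, natCast_zsmul, hz, smul_zero, add_zero]
        rw [e, el_nsmul]
        obtain ⟨q, hq⟩ := sub_one_dvd_pow_sub_one (el Λ (QuotientAddGroup.mk z₀ : M ⧸ H)) (i % p).toNat
        rw [hq, mul_right_comm, mul_geom_sum, ← el_nsmul, hz, el_zero, sub_self, zero_mul]
      have h3 := h2 h1
      rw [Ideal.mem_comap, Submodule.mem_annihilator_span_singleton, smul_eq_mul] at h3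
      exact h3
    set a := el Λ v.1
    set b := el Λ w.1
    have hv' : p • v.1 = 0 := (hmem p _).1 v.2
    have hw' : p • w.1 = 0 := (hmem p _).1 w.2
    have hne : ∀ j : ℕ, j < p → v.1 + j • w.1 ≠ 0 := by
      intro j hj h
      rcases Nat.eq_zero_or_pos j with rfl | hj0
      · exact hv0 (Subtype.ext (by simpa using h))
      · apply hw
        obtain ⟨x', y', hxy⟩ := Nat.isCoprime_iff_coprime.2 ((Nat.coprime_comm.1 ((Nat.Prime.coprime_iff_not_dvd hp).2 fun hd => absurd (Nat.le_of_dvd hj0 hd) (not_le.2 hj))))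
        refine AddSubgroup.mem_zmultiples_iff.2 ⟨-x', ?_⟩
        have : (x' * j + y' * p : ℤ) • w.1 = w.1 := by rw [hxy, one_smul]
        conv_rhs => rw [← this]
        rw [add_smul, mul_smul, mul_smul, natCast_zsmul, natCast_zsmul, hw', smul_zero, add_zero,
          eq_neg_of_add_eq_zero_right h, neg_smul, smul_neg]
    have hw0 : w.1 ≠ 0 := fun h => hw (h ▸ zero_mem _)
    have key : quotMap Λ M H x * (p : AddMonoidAlgebra Λ (M ⧸ H)) = 0 := by
      rw [geom_identity a b p hp (by rw [← el_nsmul, hw', el_zero]), mul_sub, mul_add, hkill _ hw' hw0,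
        mul_left_comm, hkill _ hw' hw0, mul_zero, sub_zero, add_zero, Finset.mul_sum]
      refine Finset.sum_eq_zero fun j hj => ?_
      rw [← el_nsmul, ← el_add]
      exact hkill _ (by rw [smul_add, hv', zero_add, smul_comm, hw', smul_zero]) (hne j (Finset.mem_range.1 hj))
    have hpdvd : p ∣ H.index := by
      rw [AddSubgroup.index_eq_card]
      have : addOrderOf v.1 = p := addOrderOf_eq_prime hv' fun e => hv0 (Subtype.ext e)
      exact this ▸ addOrderOf_dvd_natCard _
    have hpu : IsUnit (p : AddMonoidAlgebra Λ (M ⧸ H)) := by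
      rw [← map_natCast (algebraMap Λ (AddMonoidAlgebra Λ (M ⧸ H)))]
      exact (isUnit_of_dvd_unit (Nat.cast_dvd_cast hpdvd) hu).map _
    exact hpu.mul_left_eq_zero.1 key

end Groth.Agent.GrpCyc29
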